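import Cfsg.Agent.H89.RV.Blocks
import Cfsg.Agent.H199.PslAut
import Cfsg.Agent.H561.RV.AutCrit

/-!
# `AutOdd` for `PSL_n(q)`, `q` odd (helper89, S4311 / S3851)
-/

set_option autoImplicit false

namespace Cfsg.Agent.H89.RV

open Matrix Subgroup Cfsg.Agent.H199.PslAut Cfsg.Agent.H561.RV
open Cfsg.Agent.ClassicalGeometry.AutPSL.Root Cfsg.Agent.ClassicalGeometry.AutPSL.Auto

variable {F : Type*} [Field F] [Fintype F] {n : ℕ}

/-- modulo the inner-diagonal automorphisms: a field automorphism times a power of the inverse transpose -/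
theorem exists_mod (hn : 2 ≤ n) (α : MulAut (ProjectiveSpecialLinearGroup (Fin n) F)) :
    ∃ δ ∈ inndiagPSL n F, ∃ σ : F ≃+* F, α = δ * phi n F σ ∨ α = δ * phi n F σ * iot n F := by
  rcases exists_form hn α with ⟨g, σ, h⟩ | ⟨-, g, σ, h⟩
  · exact ⟨_, Psi_mem g, σ, Or.inl h⟩
  · exact ⟨_, Psi_mem g, σ, Or.inr h⟩

theorem phi_comm (σ τ : F ≃+* F) : phi n F σ * phi n F τ = phi n F τ * phi n F σ := by
  rw [← map_mul, ringEquiv_comm, map_mul]

/-- `Aut / Inndiag` is abelian -/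
theorem comm_mem (hn : 2 ≤ n) (α β : MulAut (ProjectiveSpecialLinearGroup (Fin n) F)) :
    α * β * α⁻¹ * β⁻¹ ∈ inndiagPSL n F := by
  have hN := inndiag_normal (F := F) hn
  set mk := QuotientGroup.mk' (inndiagPSL n F) with hmk
  have h1 : ∀ α : MulAut (ProjectiveSpecialLinearGroup (Fin n) F), ∃ σ : F ≃+* F,
      mk α = mk (phi n F σ) ∨ mk α = mk (phi n F σ) * mk (iot n F) := by
    intro α
    obtain ⟨δ, hδ, σ, h | h⟩ := exists_mod hn α
    · refine ⟨σ, Or.inl ?_⟩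
      rw [h, map_mul, (QuotientGroup.eq_one_iff δ).2 hδ |> fun h => (show mk δ = 1 from h), one_mul]
    · refine ⟨σ, Or.inr ?_⟩
      rw [h, map_mul, map_mul, (QuotientGroup.eq_one_iff δ).2 hδ |> fun h => (show mk δ = 1 from h), one_mul]
  have h2 : ∀ σ τ : F ≃+* F, mk (phi n F σ) * mk (phi n F τ) = mk (phi n F τ) * mk (phi n F σ) := fun σ τ => by
    rw [← map_mul, phi_comm, map_mul]
  have h3 : ∀ σ : F ≃+* F, mk (iot n F) * mk (phi n F σ) = mk (phi n F σ) * mk (iot n F) := fun σ => by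
    rw [← map_mul, iot_mul_phi, map_mul]
  have h4 : mk α * mk β = mk β * mk α := by
    obtain ⟨σ, hσ⟩ := h1 α
    obtain ⟨τ, hτ⟩ := h1 β
    rcases hσ with hσ | hσ <;> rcases hτ with hτ | hτ <;> rw [hσ, hτ]
    · exact h2 σ τ
    · rw [← mul_assoc, h2, mul_assoc, mul_assoc, h3]
    · rw [mul_assoc, h3, ← mul_assoc, h2, mul_assoc]
    · rw [mul_assoc, ← mul_assoc (mk (iot n F)), h3, mul_assoc, mul_assoc, ← mul_assoc (mk (iot n F)) (mk (phi n F σ)), h3,
        ← mul_assoc, ← mul_assoc, h2, mul_assoc, mul_assoc, mul_assoc]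
  have h5 : mk (α * β * α⁻¹ * β⁻¹) = 1 := by
    rw [map_mul, map_mul, map_mul, map_inv, map_inv, h4, mul_inv_cancel_right, mul_inv_cancel]
  exact (QuotientGroup.eq_one_iff _).1 h5

/-- every automorphism is, modulo inner-diagonal automorphisms and up to a power of two, a field automorphism of odd order -/
theorem exists_two_pow (hn : 2 ≤ n) (α : MulAut (ProjectiveSpecialLinearGroup (Fin n) F)) :
    ∃ (k : ℕ) (δ : MulAut (ProjectiveSpecialLinearGroup (Fin n) F)) (σ : F ≃+* F), δ ∈ inndiagPSL n F ∧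
      Odd (orderOf σ) ∧ α ^ 2 ^ k = δ * phi n F σ := by
  have hN := inndiag_normal (F := F) hn
  set mk := QuotientGroup.mk' (inndiagPSL n F) with hmk
  obtain ⟨δ, hδ, σ, h⟩ := exists_mod hn α
  have hδ1 : mk δ = 1 := (QuotientGroup.eq_one_iff δ).2 hδ
  have h1 : mk α ^ 2 = mk (phi n F (σ ^ 2)) := by
    rcases h with h | h
    · rw [h, map_mul, hδ1, one_mul, map_pow, map_pow]
    · rw [h, map_mul, map_mul, hδ1, one_mul, ← map_mul, ← map_pow]
      congr 1
      rw [pow_two, mul_assoc, ← mul_assoc (iot n F), iot_mul_phi, mul_assoc, iot_mul_iot, mul_one, ← map_mul, pow_two]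
  obtain ⟨j, m, hm, ho⟩ := Nat.exists_eq_two_pow_mul_odd (n := orderOf σ) (orderOf_pos σ).ne'
  have h2 : orderOf (σ ^ 2 ^ (j + 1)) ∣ m := by
    refine orderOf_dvd_of_pow_eq_one ?_
    rw [← pow_mul, pow_succ, mul_assoc, mul_comm 2 m, ← mul_assoc, ← ho, pow_mul, pow_orderOf_eq_one, one_pow]
  refine ⟨j + 1, α ^ 2 ^ (j + 1) * (phi n F (σ ^ 2 ^ (j + 1)))⁻¹, σ ^ 2 ^ (j + 1), ?_, Odd.of_dvd_nat hm h2, ?_⟩
  · refine (QuotientGroup.eq_one_iff _).1 ?_
    show mk _ = 1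
    rw [map_mul, map_inv, map_pow, pow_succ', pow_mul, h1, ← map_pow, ← map_pow, ← pow_mul, mul_inv_cancel]
  · rw [inv_mul_cancel_right]

omit [Fintype F] in
/-- an automorphism induced by a matrix of determinant `1` is inner -/
theorem Psi_mem_Inn {g : GL (Fin n) F} (h : (g : Matrix (Fin n) (Fin n) F).det = 1) :
    Psi n F g ∈ Inn (ProjectiveSpecialLinearGroup (Fin n) F) := by
  rw [Inn_eq]
  exact ⟨g, ⟨⟨(g : Matrix (Fin n) (Fin n) F), h⟩, Units.ext rfl⟩, rfl⟩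

omit [Fintype F] in
theorem inndiag_comm (φ : MulAut (ProjectiveSpecialLinearGroup (Fin n) F)) (hφ : φ ∈ inndiagPSL n F)
    (ψ : MulAut (ProjectiveSpecialLinearGroup (Fin n) F)) (hψ : ψ ∈ inndiagPSL n F) :
    φ * ψ * φ⁻¹ * ψ⁻¹ ∈ Inn (ProjectiveSpecialLinearGroup (Fin n) F) := by
  obtain ⟨g, rfl⟩ := mem_inndiag.1 hφ
  obtain ⟨h, rfl⟩ := mem_inndiag.1 hψ
  rw [← map_mul, ← map_inv, ← map_inv, ← map_mul, ← map_mul]
  refine Psi_mem_Inn ?_
  have h1 : (GeneralLinearGroup.det (g * h * g⁻¹ * h⁻¹) : Fˣ) = 1 := by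
    rw [map_mul, map_mul, map_mul, map_inv, map_inv, mul_comm (GeneralLinearGroup.det g), mul_inv_cancel_right,
      mul_inv_cancel]
  have h2 := congrArg Units.val h1
  exact h2

omit [Fintype F] in
theorem Inn_le : Inn (ProjectiveSpecialLinearGroup (Fin n) F) ≤ inndiagPSL n F := by
  rw [Inn_eq, inndiag_eq]
  rintro _ ⟨g, -, rfl⟩
  exact ⟨g, rfl⟩

theorem out_solvable (hn : 2 ≤ n) : Group.IsSolvable (Out (ProjectiveSpecialLinearGroup (Fin n) F)) := by
  have hN := inndiag_normal (F := F) hn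
  set mk := QuotientGroup.mk' (Inn (ProjectiveSpecialLinearGroup (Fin n) F)) with hmk
  have hN' : ((inndiagPSL n F).map mk).Normal := hN.map _ (QuotientGroup.mk'_surjective _)
  rw [Group.isSolvable_iff_subgroup_quotient ((inndiagPSL n F).map mk)]
  constructor
  · refine Group.isSolvable_of_comm ?_
    rintro ⟨_, a, ha, rfl⟩ ⟨_, b, hb, rfl⟩
    apply Subtype.ext
    show mk a * mk b = mk b * mk a
    have h1 : mk (a * b * a⁻¹ * b⁻¹) = 1 := (QuotientGroup.eq_one_iff _).2 (inndiag_comm a ha b hb)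
    rw [map_mul, map_mul, map_mul, map_inv, map_inv, mul_inv_eq_one, mul_inv_eq_iff_eq_mul] at h1
    exact h1
  · refine Group.isSolvable_of_comm ?_
    intro x y
    obtain ⟨x, rfl⟩ := QuotientGroup.mk'_surjective _ x
    obtain ⟨y, rfl⟩ := QuotientGroup.mk'_surjective _ y
    obtain ⟨a, rfl⟩ := QuotientGroup.mk'_surjective _ x
    obtain ⟨b, rfl⟩ := QuotientGroup.mk'_surjective _ y
    have h1 : (QuotientGroup.mk' ((inndiagPSL n F).map mk)) (mk (a * b * a⁻¹ * b⁻¹)) = 1 :=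
      (QuotientGroup.eq_one_iff _).2 ⟨_, comm_mem hn a b, rfl⟩
    rw [map_mul, map_mul, map_mul, map_inv, map_inv, map_mul, map_mul, map_mul, map_inv, map_inv, mul_inv_eq_one,
      mul_inv_eq_iff_eq_mul] at h1
    exact h1

/-- a subgroup of odd index contains a Sylow `2`-subgroup -/
theorem exists_sylow_le {S : Type*} [Group S] [Finite S] {K : Subgroup S} (h : ¬ 2 ∣ K.index) :
    ∃ P : Sylow 2 S, (P : Subgroup S) ≤ K := by
  have : Fact (Nat.Prime 2) := ⟨Nat.prime_two⟩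
  obtain ⟨Q⟩ : Nonempty (Sylow 2 K) := inferInstance
  have h1 : ¬ 2 ∣ ((Q : Subgroup K).map K.subtype).index := by
    rw [index_map_subtype]
    intro hd
    rcases (Nat.prime_two.dvd_mul).1 hd with h' | h'
    · exact Q.not_dvd_index h'
    · exact h h'
  exact ⟨(Q.isPGroup'.map K.subtype).toSylow h1, map_subtype_le _⟩

/-- **`AutOdd` for `PSL_n(q)`, `q` odd** -/
theorem autOdd_psl' (hodd : Odd (Fintype.card F)) (hn : 2 ≤ n) : AutOdd (ProjectiveSpecialLinearGroup (Fin n) F) := by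
  obtain ⟨k, b, rfl, hb⟩ := exists_digit (n := n) (by omega)
  set S := ProjectiveSpecialLinearGroup (Fin (2 ^ k + b)) F with hS
  have hN := inndiag_normal (F := F) hn
  -- a subgroup of odd index of `SL`
  let J : Subgroup (GL (Fin (2 ^ k + b)) F) := (jj F (2 ^ k) b).range
  have hJ : ¬ 2 ∣ J.index := jj_index hodd hb
  let tg : SpecialLinearGroup (Fin (2 ^ k + b)) F →* GL (Fin (2 ^ k + b)) F := SpecialLinearGroup.toGL
  have hker : (GeneralLinearGroup.det : GL (Fin (2 ^ k + b)) F →* Fˣ).ker = tg.range := by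
    ext g
    constructor
    · intro h
      have h1 : (g : Matrix (Fin (2 ^ k + b)) (Fin (2 ^ k + b)) F).det = 1 := congrArg Units.val h
      exact ⟨⟨(g : Matrix _ _ F), h1⟩, Units.ext rfl⟩
    · rintro ⟨s, rfl⟩
      exact Units.ext s.2
  have hn2 : tg.range.Normal := hker ▸ inferInstance
  have h1 : ¬ 2 ∣ (J.comap tg).index := by
    rw [index_comap]
    intro h
    refine hJ ?_
    rw [← Cfsg.Agent.H988.CPi.relIndex_mul_sup_index J tg.range]
    exact h.mul_right _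
  have h2 : ¬ 2 ∣ ((J.comap tg).map (pr : SpecialLinearGroup (Fin (2 ^ k + b)) F →* S)).index :=
    fun h => h1 (h.trans (index_map_dvd _ pr_surjective))
  obtain ⟨P₀, hP₀⟩ := exists_sylow_le h2
  -- the automorphisms centralising `P₀`
  let C : Subgroup (MulAut S) :=
    { carrier := {φ | ∀ x ∈ P₀, φ x = x}
      one_mem' := fun x _ => rfl
      mul_mem' := fun {φ ψ} hφ hψ x hx => by rw [MulAut.mul_apply, hψ x hx, hφ x hx]
      inv_mem' := fun {φ} hφ x hx => by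
        show φ⁻¹ x = x
        rw [MulAut.inv_def, MulEquiv.symm_apply_eq, hφ x hx] }
  have hCf : ∀ σ : F ≃+* F, Odd (orderOf σ) → phi (2 ^ k + b) F σ ∈ C := by
    intro σ hσ x hx
    obtain ⟨s, ⟨y, hy⟩, rfl⟩ := hP₀ hx
    show phi (2 ^ k + b) F σ (pr s) = pr s
    rw [phi_pr]
    congr 1
    apply Subtype.ext
    ext i j
    have h3 : (jj F (2 ^ k) b y : Matrix (Fin (2 ^ k + b)) (Fin (2 ^ k + b)) F) i j =
        (s : Matrix (Fin (2 ^ k + b)) (Fin (2 ^ k + b)) F) i j :=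
      congrArg (fun u : GL (Fin (2 ^ k + b)) F => (u : Matrix (Fin (2 ^ k + b)) (Fin (2 ^ k + b)) F) i j) hy
    show σ ((s : Matrix (Fin (2 ^ k + b)) (Fin (2 ^ k + b)) F) i j) = (s : Matrix (Fin (2 ^ k + b)) (Fin (2 ^ k + b)) F) i j
    rw [← h3]
    exact jj_fix (2 ^ k) b y hσ i j
  have hCb : ∀ d : Fˣ, Psi (2 ^ k + b) F (bs (2 ^ k) b d) ∈ C := by
    intro d x hx
    obtain ⟨s, ⟨y, hy⟩, rfl⟩ := hP₀ hx
    show Psi (2 ^ k + b) F (bs (2 ^ k) b d) (pr s) = pr s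
    rw [Psi_pr]
    congr 1
    apply Subtype.ext
    have h3 := jj_comm (2 ^ k) b y d
    rw [hy] at h3
    have h4 : bs (2 ^ k) b d * tg s * (bs (2 ^ k) b d)⁻¹ = tg s := by rw [h3, mul_inv_cancel_right]
    exact congrArg (fun u : GL (Fin (2 ^ k + b)) F => (u : Matrix (Fin (2 ^ k + b)) (Fin (2 ^ k + b)) F)) h4
  refine autOdd_of_layers (out_solvable hn) P₀ C (inndiagPSL (2 ^ k + b) F) (fun φ hφ => hφ) Inn_le (comm_mem hn) ?_
    (Or.inr ⟨inndiag_comm, ?_⟩)
  · intro α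
    obtain ⟨j, δ, σ, hδ, hσ, h⟩ := exists_two_pow hn α
    refine ⟨j, ?_⟩
    rw [h]
    exact mul_mem (mem_sup_right hδ) (mem_sup_left (hCf σ hσ))
  · intro δ hδ
    obtain ⟨g, rfl⟩ := mem_inndiag.1 hδ
    refine ⟨k, ?_⟩
    set d : Fˣ := GeneralLinearGroup.det g with hd
    have h5 : GeneralLinearGroup.det (g ^ 2 ^ k * (bs (2 ^ k) b d)⁻¹) = 1 := by
      have h6 : GeneralLinearGroup.det (bs (2 ^ k) b d) = d ^ 2 ^ k := by
        apply Units.ext
        rw [Units.val_pow_eq_pow_val]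
        exact det_bs d
      rw [map_mul, map_pow, map_inv, h6, ← hd, mul_inv_cancel]
    have h7 : Psi (2 ^ k + b) F g ^ 2 ^ k =
        Psi (2 ^ k + b) F (g ^ 2 ^ k * (bs (2 ^ k) b d)⁻¹) * Psi (2 ^ k + b) F (bs (2 ^ k) b d) := by
      rw [← map_pow, ← map_mul, inv_mul_cancel_right]
    rw [h7]
    exact mul_mem (mem_sup_right (Psi_mem_Inn (congrArg Units.val h5))) (mem_sup_left (hCb d))

/-- the form of the task -/
theorem autOdd_psl {F : Type} [Field F] [Fintype F] (hodd : Odd (Fintype.card F)) {n : ℕ} (hn : 2 ≤ n)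
    (_h4 : n = 2 → 4 ≤ Fintype.card F) : AutOdd (Matrix.ProjectiveSpecialLinearGroup (Fin n) F) := autOdd_psl' hodd hn

end Cfsg.Agent.H89.RV
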